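import Cfsg.Agent.S2508
import Cfsg.Agent.H254.FxEven
import Cfsg.Agent.S0799
import Cfsg.Agent.H436.TTPsl2
import Cfsg.Agent.SmallSimple.FixCount

/-!
# Fixity three in `PSL₂(q)`, `q` odd: basic counting (task 2285)
-/

set_option autoImplicit false
set_option linter.style.haveILetI false
set_option linter.unusedSectionVars false

namespace Cfsg.Agent.H853.Fx

open Subgroup Matrix Cfsg.Agent.H254.Ev Cfsg.Agent.ClassicalGeometry

/-! ### General counting -/

section general

variable {G : Type*} [Group G] [Finite G] {H : Subgroup G}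

theorem fix_mul (g : G) : (MulAction.fixedBy (G ⧸ H) g).ncard * Nat.card H =
    Nat.card {h : G // IsConj g h ∧ h ∈ H} * Nat.card (centralizer ({g} : Set G)) := by
  have h1 := SmallSimple.FixCount.card_fixedBy_mul_card_stabilizer (X := G ⧸ H) ((1 : G) : G ⧸ H) g
  rw [Nat.card_coe_set_eq] at h1
  have hst : ∀ h : G, h • ((1 : G) : G ⧸ H) = ((1 : G) : G ⧸ H) ↔ h ∈ H := by
    intro h
    rw [MulAction.Quotient.smul_mk, smul_eq_mul, mul_one, eq_comm, QuotientGroup.eq, inv_one,
      one_mul]
  have e1 : MulAction.stabilizer G ((1 : G) : G ⧸ H) = H := by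
    ext h
    rw [MulAction.mem_stabilizer_iff, hst]
  rw [e1] at h1
  rw [h1]
  congr 1
  exact Nat.card_congr (Equiv.subtypeEquivRight fun h => by rw [hst])

/-- if some element of `N(H) \ H` has its square in `H` then all numbers of fixed points are even -/
theorem even_fix {n : G} (hn : n ∈ normalizer (H : Set G)) (hnH : n ∉ H) (hn2 : n * n ∈ H) (g : G) :
    Even (MulAction.fixedBy (G ⧸ H) g).ncard := by
  classical
  have key : ∀ a b : G, ((a : G ⧸ H) = (b : G ⧸ H)) → (((a * n : G) : G ⧸ H) = ((b * n : G) : G ⧸ H)) := by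
    intro a b hab
    rw [QuotientGroup.eq] at hab ⊢
    have e : (a * n)⁻¹ * (b * n) = n⁻¹ * (a⁻¹ * b) * n := by group
    rw [e]
    have := (mem_normalizer_iff.1 (inv_mem hn) (a⁻¹ * b)).1 hab
    rwa [inv_inv] at this
  let φ : G ⧸ H → G ⧸ H := Quotient.lift (fun a : G => ((a * n : G) : G ⧸ H)) (fun a b hab =>
    key a b (Quotient.sound hab))
  have hφ : ∀ a : G, φ (a : G ⧸ H) = ((a * n : G) : G ⧸ H) := fun a => rfl
  have hinv : ∀ x, φ (φ x) = x := by
    intro x
    obtain ⟨a, rfl⟩ := QuotientGroup.mk_surjective x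
    rw [hφ, hφ, QuotientGroup.eq]
    have e : (a * n * n)⁻¹ * a = (n * n)⁻¹ := by group
    rw [e]
    exact inv_mem hn2
  have hne : ∀ x, φ x ≠ x := by
    intro x
    obtain ⟨a, rfl⟩ := QuotientGroup.mk_surjective x
    rw [hφ, Ne, QuotientGroup.eq]
    have e : (a * n)⁻¹ * a = n⁻¹ := by group
    rw [e]
    exact fun h => hnH (by simpa using inv_mem h)
  have hfix : ∀ x ∈ MulAction.fixedBy (G ⧸ H) g, φ x ∈ MulAction.fixedBy (G ⧸ H) g := by
    intro x
    obtain ⟨a, rfl⟩ := QuotientGroup.mk_surjective x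
    rw [hφ, mk_mem_fixedBy, mk_mem_fixedBy]
    intro ha
    have e : (a * n)⁻¹ * g * (a * n) = n⁻¹ * (a⁻¹ * g * a) * n := by group
    rw [e]
    have := (mem_normalizer_iff.1 (inv_mem hn) (a⁻¹ * g * a)).1 ha
    rwa [inv_inv] at this
  let S := MulAction.fixedBy (G ⧸ H) g
  haveI : Fintype S := Fintype.ofFinite _
  let f : Function.End S := fun x => ⟨φ x, hfix x x.2⟩
  have hf : f ^ 2 ^ 1 = 1 := by
    rw [pow_one, pow_two]
    funext x
    exact Subtype.ext (hinv x)
  have h1 := Equiv.Perm.card_fixedPoints_modEq (p := 2) hf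
  have h2 : Fintype.card f.fixedPoints = 0 := by
    rw [Fintype.card_eq_zero_iff]
    refine ⟨fun x => ?_⟩
    have hx : f x = x := x.2
    exact hne x.1 (congrArg Subtype.val hx)
  rw [h2] at h1
  have h3 : S.ncard = Fintype.card S := by rw [← Nat.card_coe_set_eq, Nat.card_eq_fintype_card]
  change Even S.ncard
  rw [h3, even_iff_two_dvd]
  exact (Nat.modEq_zero_iff_dvd).1 h1

/-- the number of involutions -/
noncomputable def inv2 (H : Type*) [Group H] : ℕ := Nat.card {y : H // orderOf y = 2}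

theorem inv2_pos {K : Type*} [Group K] [Finite K] {t : K} (ht : orderOf t = 2) : 0 < inv2 K := by
  haveI : Nonempty {y : K // orderOf y = 2} := ⟨⟨t, ht⟩⟩
  exact Nat.card_pos

theorem inv2_congr {H K : Type*} [Group H] [Group K] (e : H ≃* K) : inv2 H = inv2 K :=
  Nat.card_congr (e.toEquiv.subtypeEquiv fun y => by
    show orderOf y = 2 ↔ orderOf (e y) = 2
    rw [MulEquiv.orderOf_eq])

/-- one class of involutions -/
theorem fix_inv (hc : ∀ x y : G, orderOf x = 2 → orderOf y = 2 → IsConj x y) {t : G}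
    (ht : orderOf t = 2) : (MulAction.fixedBy (G ⧸ H) t).ncard * Nat.card H =
      inv2 H * Nat.card (centralizer ({t} : Set G)) := by
  rw [fix_mul]
  congr 1
  refine Nat.card_congr
    { toFun := fun h => ⟨⟨h.1, h.2.2⟩, ?_⟩
      invFun := fun y => ⟨y.1.1, ?_, y.1.2⟩
      left_inv := fun _ => rfl
      right_inv := fun _ => rfl }
  · obtain ⟨c, hc⟩ := isConj_iff.1 h.2.1
    rw [← Subgroup.orderOf_coe]
    change orderOf h.1 = 2
    rw [← hc, ← ht]
    exact (MulAut.conj c).orderOf_eq t
  · apply hc t _ ht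
    rw [Subgroup.orderOf_coe]
    exact y.2

theorem inv2_eq {H : Type*} [Group H] [Fintype H] [DecidableEq H] :
    inv2 H = (Finset.univ.filter fun y : H => y * y = 1 ∧ y ≠ 1).card := by
  rw [inv2, Nat.card_eq_fintype_card, Fintype.card_subtype]
  congr 1
  ext y
  simp only [Finset.mem_filter, Finset.mem_univ, true_and]
  constructor
  · intro hy
    refine ⟨by rw [← pow_two, ← hy, pow_orderOf_eq_one], ?_⟩
    rintro rfl
    rw [orderOf_one] at hy
    omega
  · rintro ⟨h1, h2⟩
    exact orderOf_eq_prime (by rw [pow_two, h1]) h2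

theorem inv2_A4 : inv2 (alternatingGroup (Fin 4)) = 3 := by rw [inv2_eq]; decide +kernel
theorem inv2_S4 : inv2 (Equiv.Perm (Fin 4)) = 9 := by rw [inv2_eq]; decide +kernel
theorem inv2_A5 : inv2 (alternatingGroup (Fin 5)) = 15 := by rw [inv2_eq]; decide +kernel

theorem inv2_dihedral {k : ℕ} (hk : k ≠ 0) : k ≤ inv2 (DihedralGroup k) := by
  haveI : NeZero k := ⟨hk⟩
  have h1 : Nat.card (ZMod k) = k := by rw [Nat.card_eq_fintype_card, ZMod.card]
  conv_lhs => rw [← h1]
  refine Nat.card_le_card_of_injective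
    (fun i : ZMod k => (⟨DihedralGroup.sr i, DihedralGroup.orderOf_sr i⟩ :
      {y : DihedralGroup k // orderOf y = 2})) ?_
  intro i j hij
  have := congrArg Subtype.val hij
  simpa using this

end general

/-! ### Centralizers in `PSL₂(q)` -/

section psl

variable {F : Type*} [Field F] [Fintype F]

local notation "KK" => Matrix.ProjectiveSpecialLinearGroup (Fin 2) F

theorem card_mul_two (ho : Odd (Fintype.card F)) :
    Nat.card KK * 2 = Fintype.card F * ((Fintype.card F - 1) * (Fintype.card F + 1)) := by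
  rw [PSL2Basic.card_PSL2_odd (F := F) ho, H158.PslTwoClass.sq_sub_one _ Fintype.card_pos]

/-- the centralizer of an involution -/
theorem card_cent_inv (ho : Odd (Fintype.card F)) {t : KK} (ht : orderOf t = 2) :
    (Fintype.card F % 4 = 1 ∧ Nat.card (centralizer ({t} : Set KK)) = Fintype.card F - 1) ∨
      (Fintype.card F % 4 = 3 ∧ Nat.card (centralizer ({t} : Set KK)) = Fintype.card F + 1) := by
  have h2 : (2 : F) ≠ 0 := SLTwoFour.two_ne_zero_of_odd ho
  obtain ⟨g, hg, rfl⟩ := SLTwoFour.psl_involution_lift h2 t ht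
  have htr : g.1 0 0 + g.1 1 1 = 0 := SLTwoFour.trace_of_mul_self g hg
  have hns : ∀ c : F, g.1 ≠ c • 1 := by
    intro c hc
    have h00 : g.1 0 0 = c := by rw [hc]; simp
    have h11 : g.1 1 1 = c := by rw [hc]; simp
    have h01 : g.1 0 1 = 0 := by rw [hc]; simp
    have hd : g.1 0 0 * g.1 1 1 - g.1 0 1 * g.1 1 0 = 1 := by rw [← Matrix.det_fin_two]; exact g.2
    rw [h00, h11] at htr
    have hc0 : c = 0 := by
      have : (2 : F) * c = 0 := by linear_combination htr
      exact (mul_eq_zero.1 this).resolve_left h2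
    rw [h00, h11, h01, hc0] at hd
    simp at hd
  have hcm := (centralizer ({(QuotientGroup.mk g : KK)} : Set KK)).card_mul_index
  rw [H158.PslTwoClass.index_pre] at hcm
  have hK := card_mul_two (F := F) ho
  have hq1 : 1 < Fintype.card F := Fintype.one_lt_card
  obtain ⟨r, hr⟩ := ho
  have h4 : Fintype.card F % 4 = 1 ∨ Fintype.card F % 4 = 3 := by omega
  rcases h4 with h4 | h4
  · left
    refine ⟨h4, ?_⟩
    have hsq : IsSquare (-1 : F) := FiniteField.isSquare_neg_one_iff.2 (by omega)
    obtain ⟨i, hi⟩ := hsq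
    have hi0 : i ≠ 0 := by
      rintro rfl
      simp at hi
    have hii : i⁻¹ = -i := by
      rw [inv_eq_iff_eq_inv, ← neg_inv, eq_neg_iff_add_eq_zero]
      field_simp
      linear_combination -hi
    have hidx := H158.PslTwoClass.index_split_zero ⟨r, hr⟩ hns htr hi0 (by rw [hii, htr]; ring)
      (by
        rw [← hi]
        intro e
        apply h2
        linear_combination -e)
    rw [hidx] at hcm
    obtain ⟨s, hs⟩ : ∃ s, Fintype.card F + 1 = 2 * s := ⟨r + 1, by omega⟩
    have e1 : Fintype.card F * (Fintype.card F + 1) / 2 = Fintype.card F * s := by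
      rw [hs, ← mul_assoc, mul_comm (Fintype.card F) 2, mul_assoc, Nat.mul_div_cancel_left _ (by norm_num)]
    rw [e1] at hcm
    have hs0 : 0 < Fintype.card F * s := Nat.mul_pos (by omega) (by omega)
    apply Nat.eq_of_mul_eq_mul_right hs0
    apply Nat.eq_of_mul_eq_mul_right (show 0 < 2 by norm_num)
    rw [hcm, hK, hs]
    ring
  · right
    refine ⟨h4, ?_⟩
    have hidx := H158.PslTwoClass.index_irr_zero ⟨r, hr⟩ hns htr (by
      intro x hx
      rw [htr, zero_mul, add_zero] at hx
      have : IsSquare (-1 : F) := ⟨x, by linear_combination -hx⟩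
      rw [FiniteField.isSquare_neg_one_iff] at this
      omega)
    rw [hidx] at hcm
    obtain ⟨s, hs⟩ : ∃ s, Fintype.card F - 1 = 2 * s := ⟨r, by omega⟩
    have e1 : Fintype.card F * (Fintype.card F - 1) / 2 = Fintype.card F * s := by
      rw [hs, ← mul_assoc, mul_comm (Fintype.card F) 2, mul_assoc, Nat.mul_div_cancel_left _ (by norm_num)]
    rw [e1] at hcm
    have hs0 : 0 < Fintype.card F * s := Nat.mul_pos (by omega) (by omega)
    apply Nat.eq_of_mul_eq_mul_right hs0
    apply Nat.eq_of_mul_eq_mul_right (show 0 < 2 by norm_num)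
    rw [hcm, hK, hs]
    ring

end psl

end Cfsg.Agent.H853.Fx
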