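import Cfsg.Agent.H853.Fx.PslC

/-!
# Fixity three in `PSL₂(q)`, `q` odd: the cyclic, dihedral and Borel cases
-/

set_option autoImplicit false
set_option linter.style.haveILetI false
set_option linter.unusedSectionVars false

namespace Cfsg.Agent.H853.Fx

open Subgroup Matrix Cfsg.Agent.H254.Ev Cfsg.Agent.ClassicalGeometry

variable {F : Type*} [Field F] [Fintype F]

local notation "KK" => Matrix.ProjectiveSpecialLinearGroup (Fin 2) F

theorem inv_bound (ho : Odd (Fintype.card F)) {H : Subgroup KK} (hfix : FixLE 3 H) {t : KK}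
    (ht : orderOf t = 2) :
    inv2 H * Nat.card (centralizer ({t} : Set KK)) ≤ 3 * Nat.card H := by
  rw [← fix_inv (fun x y hx hy => SLTwoFour.psl_isConj ho x y hx hy) ht]
  exact Nat.mul_le_mul_right _ (hfix t (by rintro rfl; simp at ht))

theorem eight_le (ho : Odd (Fintype.card F)) (h7 : 7 ≤ Fintype.card F) {t : KK}
    (ht : orderOf t = 2) : 8 ≤ Nat.card (centralizer ({t} : Set KK)) := by
  rcases card_cent_inv ho ht with ⟨h, h'⟩ | ⟨h, h'⟩ <;> omega

theorem ne_top {G : Type*} [Group G] [Finite G] {H : Subgroup G}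
    (h3 : ∃ g : G, g ≠ 1 ∧ (MulAction.fixedBy (G ⧸ H) g).ncard = 3) : 3 ≤ H.index := by
  obtain ⟨g, _, hg⟩ := h3
  rw [← hg, Subgroup.index, ← Set.ncard_univ]
  exact Set.ncard_le_ncard (Set.subset_univ _) (Set.toFinite _)

theorem card_mul_relIndex' {G : Type*} [Group G] {H C : Subgroup G} (h : H ≤ C) :
    Nat.card H * H.relIndex C = Nat.card C := by
  rw [← relIndex_bot_left, ← relIndex_bot_left C, relIndex_mul_relIndex _ _ _ bot_le h]

theorem no_cyclic (ho : Odd (Fintype.card F)) {H : Subgroup KK}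
    (hfix : FixLE 3 H) (h2 : 2 ∣ Nat.card H)
    (h3 : ∃ g : KK, g ≠ 1 ∧ (MulAction.fixedBy (KK ⧸ H) g).ncard = 3) (hc : IsCyclic H)
    (hk : Nat.card H ∣ (Fintype.card F + 1) / 2 ∨ Nat.card H ∣ (Fintype.card F - 1) / 2) : False := by
  obtain ⟨t, ht⟩ := exists_prime_orderOf_dvd_card' (G := H) 2 h2
  have ht' : orderOf (t : KK) = 2 := by rw [Subgroup.orderOf_coe]; exact ht
  have hle : H ≤ centralizer ({(t : KK)} : Set KK) := by
    intro h hh
    rw [mem_centralizer_singleton_iff]
    obtain ⟨g, hg⟩ := hc.exists_generator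
    obtain ⟨i, hi⟩ := mem_zpowers_iff.1 (hg ⟨h, hh⟩)
    obtain ⟨j, hj⟩ := mem_zpowers_iff.1 (hg t)
    have e : (⟨h, hh⟩ : H) * t = t * ⟨h, hh⟩ := by
      rw [← hi, ← hj, ← _root_.zpow_add, ← _root_.zpow_add, add_comm]
    exact congrArg Subtype.val e
  have hb := inv_bound ho hfix ht'
  have hpos := inv2_pos ht
  have hcard : 0 < Nat.card H := Nat.card_pos
  have hc2 : Nat.card (centralizer ({(t : KK)} : Set KK)) = 2 * Nat.card H := by
    have hb' : Nat.card (centralizer ({(t : KK)} : Set KK)) ≤ 3 * Nat.card H :=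
      le_trans (Nat.le_mul_of_pos_left _ hpos) hb
    have key : Nat.card H ∣ Nat.card (centralizer ({(t : KK)} : Set KK)) / 2 ∧
        Nat.card (centralizer ({(t : KK)} : Set KK)) =
        2 * (Nat.card (centralizer ({(t : KK)} : Set KK)) / 2) ∧
        0 < Nat.card (centralizer ({(t : KK)} : Set KK)) / 2 := by
      have hq : 1 < Fintype.card F := Fintype.one_lt_card
      rcases card_cent_inv ho ht' with ⟨h, h'⟩ | ⟨h, h'⟩
      · rw [h']
        refine ⟨?_, by omega, by omega⟩
        rcases hk with hk | hk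
        · exfalso
          have := h2.trans hk
          omega
        · exact hk
      · rw [h']
        refine ⟨?_, by omega, by omega⟩
        rcases hk with hk | hk
        · exact hk
        · exfalso
          have := h2.trans hk
          omega
    obtain ⟨⟨j, hj⟩, h4, h5⟩ := key
    rw [hj] at h4 h5
    have hj1 : j = 1 := by
      have h6 : 2 * (Nat.card H * j) ≤ 3 * Nat.card H := by rw [← h4]; exact hb'
      have h7 : 0 < j := Nat.pos_of_mul_pos_left h5 |> fun _ => by
        rcases Nat.eq_zero_or_pos j with rfl | h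
        · simp at h5
        · exact h
      by_contra hne
      have h8 : 2 ≤ j := by omega
      have h9 : Nat.card H * 2 ≤ Nat.card H * j := Nat.mul_le_mul_left _ h8
      omega
    rw [h4, hj1, mul_one]
  have hrel : H.relIndex (centralizer ({(t : KK)} : Set KK)) = 2 := by
    have h4 := card_mul_relIndex' hle
    rw [hc2, mul_comm 2] at h4
    exact Nat.eq_of_mul_eq_mul_left hcard h4
  obtain ⟨n, hn, hnH⟩ : ∃ n ∈ centralizer ({(t : KK)} : Set KK), n ∉ H := by
    by_contra hcon
    push Not at hcon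
    have h4 : centralizer ({(t : KK)} : Set KK) ≤ H := hcon
    rw [← relIndex_eq_one] at h4
    omega
  have hidx : (H.subgroupOf (centralizer ({(t : KK)} : Set KK))).index = 2 := hrel
  have hnorm := Subgroup.normal_of_index_eq_two hidx
  have hnN : n ∈ normalizer (H : Set KK) := by
    have h4 : centralizer ({(t : KK)} : Set KK) ≤ normalizer (H : Set KK) :=
      (Subgroup.normal_subgroupOf_iff_le_normalizer hle).1 hnorm
    exact h4 hn
  have hnn : n * n ∈ H := by
    have h4 := Subgroup.mul_self_mem_of_index_two hidx ⟨n, hn⟩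
    exact h4
  obtain ⟨g, _, hg⟩ := h3
  have h5 := even_fix hnN hnH hnn g
  rw [hg] at h5
  exact absurd h5 (by decide)

theorem no_dihedral (ho : Odd (Fintype.card F)) (h7 : 7 ≤ Fintype.card F) {H : Subgroup KK}
    (hfix : FixLE 3 H) {k : ℕ} (e : H ≃* DihedralGroup k) : False := by
  obtain ⟨t, ht⟩ := exists_inv (F := F) ho
  have hb := inv_bound ho hfix ht
  have h8 := eight_le ho h7 ht
  have hc : Nat.card H = 2 * k := by rw [Nat.card_congr e.toEquiv, DihedralGroup.nat_card]
  have hpos : 0 < Nat.card H := Nat.card_pos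
  have hk : k ≠ 0 := by rintro rfl; omega
  have h1 := inv2_dihedral hk
  rw [← inv2_congr e] at h1
  have h2 : k * 8 ≤ inv2 H * Nat.card (centralizer ({t} : Set KK)) := Nat.mul_le_mul h1 h8
  omega

/-! ### The Borel case -/

section borel

variable (p : ℕ) [Fact p.Prime] [CharP F p]

theorem p_dvd_q : p ∣ Fintype.card F := by
  obtain ⟨n, hp, hn⟩ := FiniteField.card F p
  rw [hn]
  exact dvd_pow_self p n.ne_zero

theorem card_syl (ho : Odd (Fintype.card F)) (P : Sylow p KK) : Nat.card P = Fintype.card F := by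
  obtain ⟨n, hp, hn⟩ := FiniteField.card F p
  have hp1 : 1 < p := hp.one_lt
  have hq : 1 < Fintype.card F := Fintype.one_lt_card
  have hpq := p_dvd_q (F := F) p
  have hK := card_mul_two (F := F) ho
  have hcm := (P : Subgroup KK).card_mul_index
  have hnd := P.not_dvd_index
  obtain ⟨k, hk⟩ := (IsPGroup.iff_card).1 P.isPGroup'
  have hk' : Nat.card P = p ^ k := hk
  have c1 : Nat.Coprime p (P : Subgroup KK).index := (Nat.Prime.coprime_iff_not_dvd hp).2 hnd
  have c2 : Nat.Coprime p 2 := by
    rw [Nat.Prime.coprime_iff_not_dvd hp]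
    intro h
    have h1 : p = 2 := (Nat.prime_dvd_prime_iff_eq hp Nat.prime_two).1 h
    subst h1
    rw [← Nat.not_even_iff_odd, even_iff_two_dvd] at ho
    exact ho hpq
  have c3 : Nat.Coprime p (Fintype.card F - 1) := by
    rw [Nat.Prime.coprime_iff_not_dvd hp]
    intro h
    have h1 : p ∣ Fintype.card F - (Fintype.card F - 1) := Nat.dvd_sub hpq h
    rw [show Fintype.card F - (Fintype.card F - 1) = 1 by omega] at h1
    exact hp1.ne' (Nat.dvd_one.1 h1)
  have c4 : Nat.Coprime p (Fintype.card F + 1) := by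
    rw [Nat.Prime.coprime_iff_not_dvd hp]
    intro h
    exact hp1.ne' (Nat.dvd_one.1 ((Nat.dvd_add_right hpq).1 h))
  rw [← hcm] at hK
  have e1 : Nat.card (P : Subgroup KK) = p ^ k := hk
  rw [e1, hn] at hK
  rw [hn] at c3 c4
  rw [hk', hn]
  apply Nat.dvd_antisymm
  · have h1 : p ^ k ∣ p ^ (n : ℕ) * ((p ^ (n : ℕ) - 1) * (p ^ (n : ℕ) + 1)) :=
      ⟨(P : Subgroup KK).index * 2, by rw [← hK, mul_assoc]⟩
    exact Nat.Coprime.dvd_of_dvd_mul_right (Nat.Coprime.pow_left k (c3.mul_right c4)) h1
  · have h1 : p ^ (n : ℕ) ∣ p ^ k * ((P : Subgroup KK).index * 2) :=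
      ⟨_, by rw [← mul_assoc, hK]⟩
    exact Nat.Coprime.dvd_of_dvd_mul_right (Nat.Coprime.pow_left _ (c1.mul_right c2)) h1

theorem card_norm (ho : Odd (Fintype.card F)) (P : Sylow p KK) :
    Nat.card (normalizer ((P : Subgroup KK) : Set KK)) * 2 =
      Fintype.card F * (Fintype.card F - 1) := by
  have h1 := H436.TT.index_normalizer p P
  have h2 := (normalizer ((P : Subgroup KK) : Set KK)).card_mul_index
  rw [h1] at h2
  have hK := card_mul_two (F := F) ho
  rw [← h2] at hK
  apply Nat.eq_of_mul_eq_mul_right (show 0 < Fintype.card F + 1 by omega)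
  rw [mul_assoc, mul_assoc, ← hK]
  ring

/-- the centralizer of a `p`-element -/
theorem cent_eq (ho : Odd (Fintype.card F)) (h7 : 7 ≤ Fintype.card F) (P : Sylow p KK) {x : KK}
    (hx : x ∈ (P : Subgroup KK)) (hx1 : x ≠ 1) : centralizer ({x} : Set KK) = P := by
  have hp : p.Prime := Fact.out
  have hpq := p_dvd_q (F := F) p
  have hp2 : ¬ p ∣ 1 := fun h => hp.one_lt.ne' (Nat.dvd_one.1 h)
  have hdvd : p ∣ Nat.card (centralizer ({x} : Set KK)) := by
    by_contra hcon
    apply hx1
    have h1 : (orderOf (⟨x, hx⟩ : P)).Coprime (Nat.card (centralizer ({x} : Set KK))) :=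
      P.isPGroup'.orderOf_coprime ((Nat.Prime.coprime_iff_not_dvd hp).2 hcon) _
    have h2 : orderOf (⟨x, hx⟩ : P) ∣ Nat.card (centralizer ({x} : Set KK)) := by
      have h3 : orderOf (⟨x, hx⟩ : P) = orderOf (⟨x, mem_centralizer_singleton_iff.2 rfl⟩ :
          centralizer ({x} : Set KK)) := by
        rw [← Subgroup.orderOf_coe, ← Subgroup.orderOf_coe]
      rw [h3]
      exact orderOf_dvd_natCard _
    have h4 := Nat.Coprime.eq_one_of_dvd h1 h2
    rw [orderOf_eq_one_iff] at h4
    exact congrArg Subtype.val h4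
  have hcard : Nat.card (centralizer ({x} : Set KK)) = Fintype.card F := by
    rcases card_cent_cases ho h7 hx1 with h | ⟨_, h⟩ | ⟨_, h⟩ | h | h
    · exact h
    · exfalso
      apply hp2
      have h1 : p ∣ Fintype.card F - (Fintype.card F - 1) := Nat.dvd_sub hpq (h ▸ hdvd)
      rwa [show Fintype.card F - (Fintype.card F - 1) = 1 by omega] at h1
    · exact absurd ((Nat.dvd_add_right hpq).1 (h ▸ hdvd)) hp2
    · have h1 := hdvd.mul_right 2
      rw [h] at h1
      exact absurd ((Nat.dvd_add_right hpq).1 h1) hp2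
    · exfalso
      apply hp2
      have h0 := hdvd.mul_right 2
      rw [h] at h0
      have h1 : p ∣ Fintype.card F - (Fintype.card F - 1) := Nat.dvd_sub hpq h0
      rwa [show Fintype.card F - (Fintype.card F - 1) = 1 by omega] at h1
  have hle : centralizer ({x} : Set KK) ≤ normalizer ((P : Subgroup KK) : Set KK) := by
    intro y hy
    rw [mem_centralizer_singleton_iff] at hy
    apply Sylow.smul_eq_iff_mem_normalizer.1
    apply PSL2ElemOrder.sylow_eq_of_mem p (y • P) P x hx1 _ hx
    rw [Sylow.coe_subgroup_smul, Subgroup.mem_pointwise_smul_iff_inv_smul_mem]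
    have : (MulAut.conj y)⁻¹ • x = x := by
      rw [← map_inv, MulAut.smul_def, MulAut.conj_apply, inv_inv, mul_assoc, ← hy]
      group
    rw [this]
    exact hx
  have hpg : IsPGroup p (centralizer ({x} : Set KK)) := by
    obtain ⟨n, _, hn⟩ := FiniteField.card F p
    exact IsPGroup.of_card (n := n) (by rw [hcard, hn])
  have h1 : centralizer ({x} : Set KK) ≤ (P : Subgroup KK) := by
    have h2 : centralizer ({x} : Set KK) ⊓ normalizer ((P : Subgroup KK) : Set KK) =
        centralizer ({x} : Set KK) ⊓ P := hpg.inf_normalizer_sylow P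
    rw [inf_eq_left.2 hle] at h2
    rw [h2]
    exact inf_le_right
  apply Subgroup.eq_of_le_of_card_ge h1
  rw [hcard]
  exact (card_syl p ho P).le

/-- non-identity elements fix at most two points of the projective line -/
theorem fix_sylow_le (ho : Odd (Fintype.card F)) (h7 : 7 ≤ Fintype.card F) {g : KK}
    {P1 P2 P3 : Sylow p KK} (h12 : P1 ≠ P2) (h13 : P1 ≠ P3) (h23 : P2 ≠ P3)
    (h1 : g • P1 = P1) (h2 : g • P2 = P2) (h3 : g • P3 = P3) : g = 1 := by
  classical
  have hti : ∀ P Q : Sylow p KK, P ≠ Q → ∀ x : KK, x ∈ (P : Subgroup KK) → x ∈ (Q : Subgroup KK) →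
      x = 1 := by
    intro P Q hPQ x hP hQ
    by_contra hx
    exact hPQ (PSL2ElemOrder.sylow_eq_of_mem p P Q x hx hP hQ)
  have hfree : ∀ P Q : Sylow p KK, P ≠ Q → ∀ x : KK, x ∈ (P : Subgroup KK) → x • Q = Q → x = 1 := by
    intro P Q hPQ x hP hQ
    have hx : x ∈ normalizer ((Q : Subgroup KK) : Set KK) := Sylow.smul_eq_iff_mem_normalizer.1 hQ
    have hz : IsPGroup p (zpowers x) := P.isPGroup'.to_le (by rwa [zpowers_le])
    have h4 : zpowers x ⊓ normalizer ((Q : Subgroup KK) : Set KK) = zpowers x ⊓ Q :=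
      hz.inf_normalizer_sylow Q
    have h5 : x ∈ zpowers x ⊓ normalizer ((Q : Subgroup KK) : Set KK) := ⟨mem_zpowers x, hx⟩
    rw [h4] at h5
    exact hti P Q hPQ x hP h5.2
  -- `P1` is transitive on the other Sylow subgroups
  obtain ⟨u, hu⟩ : ∃ u : (P1 : Subgroup KK), (u : KK) • P2 = P3 := by
    have hinj : Function.Injective (fun u : (P1 : Subgroup KK) =>
        (⟨(u : KK) • P2, by
          intro h
          apply h12
          have h5 : (u : KK)⁻¹ • P1 = P1 := by
            rw [Sylow.smul_eq_iff_mem_normalizer]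
            exact le_normalizer (inv_mem u.2)
          calc P1 = (u : KK)⁻¹ • P1 := h5.symm
            _ = (u : KK)⁻¹ • ((u : KK) • P2) := by rw [h]
            _ = P2 := inv_smul_smul _ _⟩ : {Q : Sylow p KK // Q ≠ P1})) := by
      intro u v huv
      have h4 : (u : KK) • P2 = (v : KK) • P2 := congrArg Subtype.val huv
      have h5 : ((v : KK)⁻¹ * u) • P2 = P2 := by rw [mul_smul, h4, inv_smul_smul]
      have h6 := hfree P1 P2 h12 _ (mul_mem (inv_mem v.2) u.2) h5
      exact Subtype.ext (inv_mul_eq_one.1 h6).symm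
    have hcard : Nat.card (P1 : Subgroup KK) = Nat.card {Q : Sylow p KK // Q ≠ P1} := by
      have h4 : Nat.card (Sylow p KK) = Fintype.card F + 1 :=
        P1.card_eq_index_normalizer.trans (H436.TT.index_normalizer p P1)
      have h5 : Nat.card {Q : Sylow p KK // Q ≠ P1} = Fintype.card F := by
        haveI : Fintype (Sylow p KK) := Fintype.ofFinite _
        rw [Nat.card_eq_fintype_card, Fintype.card_subtype_compl, Fintype.card_subtype_eq,
          ← Nat.card_eq_fintype_card, h4]
        rfl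
      rw [h5]
      exact card_syl p ho P1
    have hbij := (Nat.bijective_iff_injective_and_card _).2 ⟨hinj, hcard⟩
    obtain ⟨u, hu⟩ := hbij.2 ⟨P3, h13.symm⟩
    exact ⟨u, congrArg Subtype.val hu⟩
  have hgu : g * u = u * g := by
    have h4 : (g * u * g⁻¹ : KK) ∈ (P1 : Subgroup KK) :=
      (mem_normalizer_iff.1 (Sylow.smul_eq_iff_mem_normalizer.1 h1) _).1 u.2
    have h5 : ((u : KK)⁻¹ * (g * u * g⁻¹)) • P2 = P2 := by
      have h6 : g⁻¹ • P2 = P2 := inv_smul_eq_iff.2 h2.symm
      rw [mul_smul, mul_smul, h6, mul_smul, hu, h3, ← hu, inv_smul_smul]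
    have h6 := hfree P1 P2 h12 _ (mul_mem (inv_mem u.2) h4) h5
    rw [inv_mul_eq_one] at h6
    have h7 : (u : KK) * g = g * u := by
      calc (u : KK) * g = (g * u * g⁻¹) * g := by rw [← h6]
        _ = g * u := by group
    exact h7.symm
  have hu1 : (u : KK) ≠ 1 := by
    intro h
    rw [h, one_smul] at hu
    exact h23 hu
  have hg : g ∈ (P1 : Subgroup KK) := by
    rw [← cent_eq p ho h7 P1 u.2 hu1, mem_centralizer_singleton_iff]
    exact hgu
  exact hfree P1 P2 h12 g hg h2

theorem no_borel (ho : Odd (Fintype.card F)) (h7 : 7 ≤ Fintype.card F) {H : Subgroup KK}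
    (hfix : FixLE 3 H) (h2 : 2 ∣ Nat.card H)
    (h3 : ∃ g : KK, g ≠ 1 ∧ (MulAction.fixedBy (KK ⧸ H) g).ncard = 3) (hp : p ∣ Nat.card H)
    (P : Sylow p KK) (hP : H ≤ normalizer ((P : Subgroup KK) : Set KK)) : False := by
  classical
  obtain ⟨x0, hx0⟩ := exists_prime_orderOf_dvd_card' (G := H) p hp
  obtain ⟨t, ht⟩ := exists_prime_orderOf_dvd_card' (G := H) 2 h2
  have ht' : orderOf (t : KK) = 2 := by rw [Subgroup.orderOf_coe]; exact ht
  have hpp : p.Prime := Fact.out
  obtain ⟨x, hx⟩ : ∃ x : KK, x = x0 := ⟨_, rfl⟩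
  have hxH : x ∈ H := hx ▸ x0.2
  have hxo : orderOf x = p := by rw [hx, Subgroup.orderOf_coe, hx0]
  have hx1 : x ≠ 1 := by
    rintro h
    rw [h, orderOf_one] at hxo
    exact hpp.one_lt.ne hxo
  have hxP : x ∈ (P : Subgroup KK) := by
    have hz : IsPGroup p (zpowers x) := IsPGroup.of_card (n := 1) (by
      rw [Nat.card_zpowers, hxo, pow_one])
    have h4 : zpowers x ⊓ normalizer ((P : Subgroup KK) : Set KK) = zpowers x ⊓ P :=
      hz.inf_normalizer_sylow P
    have h5 : x ∈ zpowers x ⊓ normalizer ((P : Subgroup KK) : Set KK) := ⟨mem_zpowers x, hP hxH⟩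
    rw [h4] at h5
    exact h5.2
  have hcent := cent_eq p ho h7 P hxP hx1
  obtain ⟨A, hA⟩ : ∃ A : Subgroup KK, A = H ⊓ P := ⟨_, rfl⟩
  have hAH : A ≤ H := hA ▸ inf_le_left
  have hAP : A ≤ P := hA ▸ inf_le_right
  have hPq := card_syl p ho P
  have hrel : H.relIndex (P : Subgroup KK) ≤ 3 := by
    have := hfix.cent_le hxH hx1
    rwa [hcent] at this
  have hrelA : A.relIndex (P : Subgroup KK) = H.relIndex (P : Subgroup KK) := by
    rw [hA, inf_relIndex_right]
  have hPA : Nat.card A * A.relIndex (P : Subgroup KK) = Fintype.card F := by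
    rw [card_mul_relIndex' hAP]; exact hPq
  have hposA : 0 < Nat.card A := Nat.card_pos
  -- involutions
  have hbd := inv_bound ho hfix ht'
  have hinvA : Nat.card A ≤ inv2 H := by
    have hmem : ∀ u : A, (u : KK) * t * (u : KK)⁻¹ ∈ H := fun u =>
      mul_mem (mul_mem (hAH u.2) t.2) (inv_mem (hAH u.2))
    refine Nat.card_le_card_of_injective
      (fun u : A => (⟨⟨(u : KK) * t * (u : KK)⁻¹, hmem u⟩, ?_⟩ : {y : H // orderOf y = 2})) ?_
    · rw [← Subgroup.orderOf_coe]
      exact ((MulAut.conj (u : KK)).orderOf_eq (t : KK)).trans ht'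
    · intro u v huv
      have h4 : (u : KK) * t * (u : KK)⁻¹ = (v : KK) * t * (v : KK)⁻¹ :=
        congrArg (fun y => ((y.1 : H) : KK)) huv
      have h5 : ((v : KK)⁻¹ * u) * t = t * ((v : KK)⁻¹ * u) := by
        calc ((v : KK)⁻¹ * u) * t = (v : KK)⁻¹ * ((u : KK) * t * (u : KK)⁻¹) * u := by group
          _ = (v : KK)⁻¹ * ((v : KK) * t * (v : KK)⁻¹) * u := by rw [h4]
          _ = t * ((v : KK)⁻¹ * u) := by group
      by_contra hne
      have h6 : (v : KK)⁻¹ * u ≠ 1 := fun h => hne (Subtype.ext (inv_mul_eq_one.1 h).symm)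
      have h7' : (v : KK)⁻¹ * u ∈ (P : Subgroup KK) := mul_mem (inv_mem (hAP v.2)) (hAP u.2)
      have h8 : (t : KK) ∈ (P : Subgroup KK) := by
        rw [← cent_eq p ho h7 P h7' h6, mem_centralizer_singleton_iff]
        exact h5.symm
      have h9 : orderOf (t : KK) ∣ Nat.card (P : Subgroup KK) := by
        have h10 : orderOf (t : KK) = orderOf (⟨t, h8⟩ : (P : Subgroup KK)) := by
          rw [← Subgroup.orderOf_coe]
        rw [h10]
        exact orderOf_dvd_natCard _
      rw [ht'] at h9
      have h10 : 2 ∣ Fintype.card F := by rw [← hPq]; exact h9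
      rw [← even_iff_two_dvd] at h10
      exact (Nat.not_even_iff_odd.2 ho) h10
  -- the class of `x`
  have hH := card_mul_relIndex' hAH
  have hk : A.relIndex H ≤ Nat.card A - 1 := by
    have hnorm : ∀ h ∈ H, h * x * h⁻¹ ∈ A := by
      intro h hh
      rw [hA]
      have hm : h * x * h⁻¹ ∈ H := mul_mem (mul_mem hh hxH) (inv_mem hh)
      exact ⟨hm, (mem_normalizer_iff.1 (hP hh) x).1 hxP⟩
    have hcardA : Nat.card {y : A // y ≠ 1} = Nat.card A - 1 := by
      haveI : Fintype A := Fintype.ofFinite _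
      rw [Nat.card_eq_fintype_card, Fintype.card_subtype_compl, Fintype.card_subtype_eq,
        ← Nat.card_eq_fintype_card]
    rw [← hcardA, relIndex, index]
    refine Nat.card_le_card_of_injective
      (fun c : H ⧸ A.subgroupOf H =>
        (⟨⟨((Quotient.out c : H) : KK) * x * ((Quotient.out c : H) : KK)⁻¹,
          hnorm _ (Quotient.out c).2⟩, ?_⟩ : {y : A // y ≠ 1})) ?_
    · intro h
      apply hx1
      have h4 : ((Quotient.out c : H) : KK) * x * ((Quotient.out c : H) : KK)⁻¹ = 1 :=
        congrArg Subtype.val h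
      rwa [conj_eq_one_iff] at h4
    · intro c d hcd
      have h4 : ((Quotient.out c : H) : KK) * x * ((Quotient.out c : H) : KK)⁻¹ =
          ((Quotient.out d : H) : KK) * x * ((Quotient.out d : H) : KK)⁻¹ :=
        congrArg (fun y => ((y.1 : A) : KK)) hcd
      have h5 : (((Quotient.out c : H) : KK)⁻¹ * ((Quotient.out d : H) : KK)) * x =
          x * (((Quotient.out c : H) : KK)⁻¹ * ((Quotient.out d : H) : KK)) := by
        calc (((Quotient.out c : H) : KK)⁻¹ * ((Quotient.out d : H) : KK)) * x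
            = ((Quotient.out c : H) : KK)⁻¹ *
              (((Quotient.out d : H) : KK) * x * ((Quotient.out d : H) : KK)⁻¹) *
                ((Quotient.out d : H) : KK) := by group
          _ = ((Quotient.out c : H) : KK)⁻¹ *
              (((Quotient.out c : H) : KK) * x * ((Quotient.out c : H) : KK)⁻¹) *
                ((Quotient.out d : H) : KK) := by rw [h4]
          _ = x * (((Quotient.out c : H) : KK)⁻¹ * ((Quotient.out d : H) : KK)) := by group
      have h6 : ((Quotient.out c : H) : KK)⁻¹ * ((Quotient.out d : H) : KK) ∈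
          centralizer ({x} : Set KK) := mem_centralizer_singleton_iff.2 h5
      rw [hcent] at h6
      have h7' : (Quotient.out c : H)⁻¹ * (Quotient.out d : H) ∈ A.subgroupOf H := by
        have hm : ∀ y : H, (y : KK) ∈ (P : Subgroup KK) → y ∈ A.subgroupOf H := by
          intro y hy
          rw [mem_subgroupOf, hA]
          exact ⟨y.2, hy⟩
        exact hm _ h6
      have h8 := QuotientGroup.eq.2 h7'
      rwa [QuotientGroup.out_eq', QuotientGroup.out_eq'] at h8
  have hc3 : Nat.card (centralizer ({(t : KK)} : Set KK)) ≤ 3 * A.relIndex H := by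
    have h4 : Nat.card A * Nat.card (centralizer ({(t : KK)} : Set KK)) ≤
        Nat.card A * (3 * A.relIndex H) :=
      calc Nat.card A * Nat.card (centralizer ({(t : KK)} : Set KK))
          ≤ inv2 H * Nat.card (centralizer ({(t : KK)} : Set KK)) := Nat.mul_le_mul_right _ hinvA
        _ ≤ 3 * Nat.card H := hbd
        _ = Nat.card A * (3 * A.relIndex H) := by rw [← hH]; ring
    exact Nat.le_of_mul_le_mul_left h4 hposA
  have hcq : Fintype.card F - 1 ≤ Nat.card (centralizer ({(t : KK)} : Set KK)) := by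
    rcases card_cent_inv ho ht' with ⟨_, h⟩ | ⟨_, h⟩ <;> omega
  have hr1 : A.relIndex (P : Subgroup KK) = 1 := by
    rw [← hrelA] at hrel
    have h4 : A.relIndex (P : Subgroup KK) ≠ 0 := by
      intro h
      rw [h, mul_zero] at hPA
      omega
    obtain ⟨r, hr⟩ := ho
    generalize A.relIndex (P : Subgroup KK) = j at hrel h4 hPA ⊢
    interval_cases j
    · omega
    · rfl
    · omega
    · omega
  rw [hr1, mul_one] at hPA
  have hcardN := card_norm p ho P
  obtain ⟨j, hj⟩ := Subgroup.card_dvd_of_le hP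
  have hHN : H = normalizer ((P : Subgroup KK) : Set KK) := by
    apply Subgroup.eq_of_le_of_card_ge hP
    rw [hPA] at hH
    rw [hj, ← hH] at hcardN
    have h4 : A.relIndex H * j * 2 = Fintype.card F - 1 := by
      apply Nat.eq_of_mul_eq_mul_left (show 0 < Fintype.card F by omega)
      rw [← hcardN]; ring
    have h5 : j = 1 := by
      have h6 : A.relIndex H * j * 2 ≤ 3 * A.relIndex H := by rw [h4]; exact hcq.trans hc3
      have h7' : 0 < A.relIndex H := by
        rcases Nat.eq_zero_or_pos (A.relIndex H) with h | h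
        · rw [h] at h4; omega
        · exact h
      by_contra hne
      rcases Nat.lt_or_ge j 1 with h8 | h8
      · have : j = 0 := by omega
        rw [this] at h4
        omega
      · have h9 : 2 ≤ j := by omega
        have h10 : A.relIndex H * 2 ≤ A.relIndex H * j := Nat.mul_le_mul_left _ h9
        omega
    rw [hj, h5, mul_one]
  obtain ⟨g, hg1, hg⟩ := h3
  have hst : H = MulAction.stabilizer KK P := by rw [Sylow.stabilizer_eq_normalizer]; exact hHN
  rw [hst, ncard_fixedBy_quot inferInstance] at hg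
  obtain ⟨P1, P2, P3, h12, h13, h23, he⟩ := Set.ncard_eq_three.1 hg
  have hm : ∀ Q ∈ MulAction.fixedBy (Sylow p KK) g, g • Q = Q := fun Q hQ => hQ
  rw [he] at hm
  exact hg1 (fix_sylow_le p ho h7 h12 h13 h23 (hm P1 (by simp)) (hm P2 (by simp)) (hm P3 (by simp)))

end borel

end Cfsg.Agent.H853.Fx
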